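import Cfsg.Agent.Depth.P.Fac
import Cfsg.Agent.Depth.S.GH1
import Cfsg.Agent.Depth.S.GH2
import Cfsg.Agent.Depth.N.Rgs

/-!
# Depth (S5768): primes in progressions from the tables
-/

set_option autoImplicit false
set_option Elab.async false

namespace Cfsg.Agent.Depth.P

open Finset Real

theorem gb_of {q : ℕ} (hq : 0 < q) (h : ((60 * q).totient : ℝ) / (60 * q : ℕ) * ff q = 4 / 15) (hf : 0 < ff q) :
    GB (60 * q) := by
  intro R hR
  have h1 := S.gh1 q R hq
  obtain ⟨-, h2, h3⟩ := S.gh2 R hR
  have key : ∀ z : ℝ, 4 / 15 * z ≤ Gs 60 R → ((60 * q).totient : ℝ) / (60 * q : ℕ) * z ≤ Gs (60 * q) R := by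
    intro z hz
    refine le_trans ?_ h1
    rw [le_div_iff₀ hf, mul_right_comm, h]
    exact hz
  exact ⟨key _ h2, fun h => key _ (h3 h)⟩

theorem ff_two_mul {p : ℕ} (hp : p.Prime) (h : 5 < p) : ff (2 * p) = p / (p - 1) := by
  rw [ff, Nat.primeFactors_mul (by norm_num) hp.ne_zero, Nat.Prime.primeFactors Nat.prime_two, hp.primeFactors,
    filter_union, filter_singleton, filter_singleton, if_neg (by norm_num), if_pos h, empty_union, prod_singleton]

theorem pi_mono {W : ℕ} {x0 x1 lo up : ℝ} (h : PI W x0 lo up) (h1 : x0 ≤ x1) : PI W x1 lo up :=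
  fun c x hc hx => h c x hc (h1.trans hx)

theorem exp_ge (n : ℕ) (y : ℝ) (hy : 0 ≤ y) :
    2.7182818283 ^ n * (1 + y + y ^ 2 / 2 + y ^ 3 / 6 + y ^ 4 / 24 + y ^ 5 / 120) ≤ Real.exp (n + y) := by
  rw [exp_add, ← mul_one (n : ℝ), exp_nat_mul]
  have h := Real.sum_le_exp_of_nonneg hy 6
  simp only [sum_range_succ, range_zero, sum_empty, Nat.factorial] at h
  norm_num at h
  exact mul_le_mul (pow_le_pow_left₀ (by norm_num) Real.exp_one_gt_d9.le _) (by linarith) (by positivity)
    (by positivity)

theorem x0_le : ((158000000000000 : ℕ) : ℝ) ≤ Real.exp 32.7 := by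
  have := exp_ge 32 0.7 (by norm_num)
  rw [show ((32 : ℕ) : ℝ) + 0.7 = 32.7 by norm_num] at this
  exact le_trans (by norm_num) this

theorem x1_le : ((2860000000000000000 : ℕ) : ℝ) ≤ Real.exp 42.5 := by
  have := exp_ge 42 0.5 (by norm_num)
  rw [show ((42 : ℕ) : ℝ) + 0.5 = 42.5 by norm_num] at this
  exact le_trans (by norm_num) this

theorem x2_le : ((9360000000000000000000000 : ℕ) : ℝ) ≤ Real.exp 57.5 := by
  have := exp_ge 57 0.5 (by norm_num)
  rw [show ((57 : ℕ) : ℝ) + 0.5 = 57.5 by norm_num] at this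
  exact le_trans (by norm_num) this

theorem tot60 : Nat.totient 60 = 16 := by decide +kernel

theorem gb60 : GB 60 := by
  have h : ff 1 = 1 := by simp [ff]
  exact gb_of (q := 1) (by norm_num) (by rw [h, show 60 * 1 = 60 from rfl, tot60]; norm_num) (by rw [h]; norm_num)

theorem pi_60_0 (h : Tabs) : PI 60 (Real.exp 32.7) 0.9433 1.07 := by
  have := pi_mono (pi_of (xl := 158000000000000) (lo := 9433) (up := 10700) (s0 := 166) (t := bI60.tail) gb60 (by norm_num) tot60 (by norm_num)
    facts60 (by norm_num) h.2.1 (by decide +kernel)) x0_le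
  convert this using 1 <;> norm_num

theorem pi_60_1 (h : Tabs) : PI 60 (Real.exp 42.5) 0.9494 1.07 := by
  have := pi_mono (pi_of (xl := 2860000000000000000) (lo := 9494) (up := 10700) (s0 := 166) (t := bI60.tail) gb60 (by norm_num) tot60 (by norm_num)
    facts60 (by norm_num) h.2.1 (by decide +kernel)) x1_le
  convert this using 1 <;> norm_num

theorem pi_60_2 (h : Tabs) : PI 60 (Real.exp 57.5) 0.9523 1.07 := by
  have := pi_mono (pi_of (xl := 9360000000000000000000000) (lo := 9523) (up := 10700) (s0 := 166) (t := bI60.tail) gb60 (by norm_num) tot60 (by norm_num)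
    facts60 (by norm_num) h.2.1 (by decide +kernel)) x2_le
  convert this using 1 <;> norm_num

theorem pp1 (h : Tabs) : PP 60 (15000000000000 : ℕ) (((9720 : ℕ) : ℝ) / 10 ^ 4) (((10320 : ℕ) : ℝ) / 10 ^ 4) :=
  pp_of (s0 := 333) (t := bP60.tail) gb60 (by norm_num) tot60 (by norm_num) facts60 (by norm_num) h.1 (by decide +kernel)

theorem pp60 (h : Tabs) : PP 60 (10 ^ 21) 0.982 1.019 := by
  have := pp_of2 (xl := 10 ^ 21) (lo := 9820) (up := 10190) (s0 := 333) (t := bP60.tail) gb60 (by norm_num) tot60
    (by norm_num) facts60 (by norm_num) h.1 (pp1 h) (by decide +kernel)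
  convert this using 1 <;> norm_num

theorem tot120 : Nat.totient 120 = 32 := by decide +kernel

theorem gb120 : GB 120 := by
  have h : ff 2 = 1 := by rw [ff, Nat.Prime.primeFactors Nat.prime_two, filter_singleton, if_neg (by norm_num), prod_empty]
  exact gb_of (q := 2) (by norm_num) (by rw [h, show 60 * 2 = 120 from rfl, tot120]; norm_num) (by rw [h]; norm_num)

theorem pi_120_0 (h : Tabs) : PI 120 (Real.exp 32.7) 0.8841 1.1232 := by
  have := pi_mono (pi_of (xl := 158000000000000) (lo := 8841) (up := 11232) (s0 := 83) (t := bI120.tail) gb120 (by norm_num) tot120 (by norm_num)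
    facts120 (by norm_num) h.2.2.1 (by decide +kernel)) x0_le
  convert this using 1 <;> norm_num

theorem pi_120_1 (h : Tabs) : PI 120 (Real.exp 42.5) 0.8992 1.1071 := by
  have := pi_mono (pi_of (xl := 2860000000000000000) (lo := 8992) (up := 11071) (s0 := 83) (t := bI120.tail) gb120 (by norm_num) tot120 (by norm_num)
    facts120 (by norm_num) h.2.2.1 (by decide +kernel)) x1_le
  convert this using 1 <;> norm_num

theorem pi_120_2 (h : Tabs) : PI 120 (Real.exp 57.5) 0.9058 1.0999 := by
  have := pi_mono (pi_of (xl := 9360000000000000000000000) (lo := 9058) (up := 10999) (s0 := 83) (t := bI120.tail) gb120 (by norm_num) tot120 (by norm_num)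
    facts120 (by norm_num) h.2.2.1 (by decide +kernel)) x2_le
  convert this using 1 <;> norm_num

theorem tot840 : Nat.totient 840 = 192 := by decide +kernel

theorem gb840 : GB 840 := by
  have h : ff 14 = 7 / 6 := (ff_two_mul (p := 7) (by norm_num) (by norm_num)).trans (by norm_num)
  exact gb_of (q := 14) (by norm_num) (by rw [h, show 60 * 14 = 840 from rfl, tot840]; norm_num) (by rw [h]; norm_num)

theorem pi_840_0 (h : Tabs) : PI 840 (Real.exp 32.7) 0.7308 1.2846 := by
  have := pi_mono (pi_of (xl := 158000000000000) (lo := 7308) (up := 12846) (s0 := 17) (t := bI840.tail) gb840 (by norm_num) tot840 (by norm_num)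
    facts840 (by norm_num) h.2.2.2.1 (by decide +kernel)) x0_le
  convert this using 1 <;> norm_num

theorem pi_840_1 (h : Tabs) : PI 840 (Real.exp 42.5) 0.7743 1.2377 := by
  have := pi_mono (pi_of (xl := 2860000000000000000) (lo := 7743) (up := 12377) (s0 := 17) (t := bI840.tail) gb840 (by norm_num) tot840 (by norm_num)
    facts840 (by norm_num) h.2.2.2.1 (by decide +kernel)) x1_le
  convert this using 1 <;> norm_num

theorem pi_840_2 (h : Tabs) : PI 840 (Real.exp 57.5) 0.7927 1.2177 := by
  have := pi_mono (pi_of (xl := 9360000000000000000000000) (lo := 7927) (up := 12177) (s0 := 17) (t := bI840.tail) gb840 (by norm_num) tot840 (by norm_num)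
    facts840 (by norm_num) h.2.2.2.1 (by decide +kernel)) x2_le
  convert this using 1 <;> norm_num

theorem tot1320 : Nat.totient 1320 = 320 := by decide +kernel

theorem gb1320 : GB 1320 := by
  have h : ff 22 = 11 / 10 := (ff_two_mul (p := 11) (by norm_num) (by norm_num)).trans (by norm_num)
  exact gb_of (q := 22) (by norm_num) (by rw [h, show 60 * 22 = 1320 from rfl, tot1320]; norm_num) (by rw [h]; norm_num)

theorem pi_1320_0 (h : Tabs) : PI 1320 (Real.exp 32.7) 0.5337 1.4784 := by
  have := pi_mono (pi_of (xl := 158000000000000) (lo := 5337) (up := 14784) (s0 := 7) (t := bI1320.tail) gb1320 (by norm_num) tot1320 (by norm_num)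
    facts1320 (by norm_num) h.2.2.2.2.1 (by decide +kernel)) x0_le
  convert this using 1 <;> norm_num

theorem pi_1320_1 (h : Tabs) : PI 1320 (Real.exp 42.5) 0.6111 1.3979 := by
  have := pi_mono (pi_of (xl := 2860000000000000000) (lo := 6111) (up := 13979) (s0 := 7) (t := bI1320.tail) gb1320 (by norm_num) tot1320 (by norm_num)
    facts1320 (by norm_num) h.2.2.2.2.1 (by decide +kernel)) x1_le
  convert this using 1 <;> norm_num

theorem pi_1320_2 (h : Tabs) : PI 1320 (Real.exp 57.5) 0.6435 1.3641 := by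
  have := pi_mono (pi_of (xl := 9360000000000000000000000) (lo := 6435) (up := 13641) (s0 := 7) (t := bI1320.tail) gb1320 (by norm_num) tot1320 (by norm_num)
    facts1320 (by norm_num) h.2.2.2.2.1 (by decide +kernel)) x2_le
  convert this using 1 <;> norm_num

theorem tot1560 : Nat.totient 1560 = 384 := by decide +kernel

theorem gb1560 : GB 1560 := by
  have h : ff 26 = 13 / 12 := (ff_two_mul (p := 13) (by norm_num) (by norm_num)).trans (by norm_num)
  exact gb_of (q := 26) (by norm_num) (by rw [h, show 60 * 26 = 1560 from rfl, tot1560]; norm_num) (by rw [h]; norm_num)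

theorem pi_1560_0 (h : Tabs) : PI 1560 (Real.exp 32.7) 0.4686 1.5441 := by
  have := pi_mono (pi_of (xl := 158000000000000) (lo := 4686) (up := 15441) (s0 := 6) (t := bI1560.tail) gb1560 (by norm_num) tot1560 (by norm_num)
    facts1560 (by norm_num) h.2.2.2.2.2.1 (by decide +kernel)) x0_le
  convert this using 1 <;> norm_num

theorem pi_1560_1 (h : Tabs) : PI 1560 (Real.exp 42.5) 0.5574 1.4520 := by
  have := pi_mono (pi_of (xl := 2860000000000000000) (lo := 5574) (up := 14520) (s0 := 6) (t := bI1560.tail) gb1560 (by norm_num) tot1560 (by norm_num)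
    facts1560 (by norm_num) h.2.2.2.2.2.1 (by decide +kernel)) x1_le
  convert this using 1 <;> norm_num

theorem pi_1560_2 (h : Tabs) : PI 1560 (Real.exp 57.5) 0.5944 1.4136 := by
  have := pi_mono (pi_of (xl := 9360000000000000000000000) (lo := 5944) (up := 14136) (s0 := 6) (t := bI1560.tail) gb1560 (by norm_num) tot1560 (by norm_num)
    facts1560 (by norm_num) h.2.2.2.2.2.1 (by decide +kernel)) x2_le
  convert this using 1 <;> norm_num

theorem tot2040 : Nat.totient 2040 = 512 := by decide +kernel

theorem gb2040 : GB 2040 := by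
  have h : ff 34 = 17 / 16 := (ff_two_mul (p := 17) (by norm_num) (by norm_num)).trans (by norm_num)
  exact gb_of (q := 34) (by norm_num) (by rw [h, show 60 * 34 = 2040 from rfl, tot2040]; norm_num) (by rw [h]; norm_num)

theorem pi_2040_0 (h : Tabs) : PI 2040 (Real.exp 32.7) 0.3467 1.6689 := by
  have := pi_mono (pi_of (xl := 158000000000000) (lo := 3467) (up := 16689) (s0 := 4) (t := bI2040.tail) gb2040 (by norm_num) tot2040 (by norm_num)
    facts2040 (by norm_num) h.2.2.2.2.2.2.1 (by decide +kernel)) x0_le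
  convert this using 1 <;> norm_num

theorem pi_2040_1 (h : Tabs) : PI 2040 (Real.exp 42.5) 0.4565 1.5554 := by
  have := pi_mono (pi_of (xl := 2860000000000000000) (lo := 4565) (up := 15554) (s0 := 4) (t := bI2040.tail) gb2040 (by norm_num) tot2040 (by norm_num)
    facts2040 (by norm_num) h.2.2.2.2.2.2.1 (by decide +kernel)) x1_le
  convert this using 1 <;> norm_num

theorem pi_2040_2 (h : Tabs) : PI 2040 (Real.exp 57.5) 0.5021 1.5081 := by
  have := pi_mono (pi_of (xl := 9360000000000000000000000) (lo := 5021) (up := 15081) (s0 := 4) (t := bI2040.tail) gb2040 (by norm_num) tot2040 (by norm_num)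
    facts2040 (by norm_num) h.2.2.2.2.2.2.1 (by decide +kernel)) x2_le
  convert this using 1 <;> norm_num

theorem tot2280 : Nat.totient 2280 = 576 := by decide +kernel

theorem gb2280 : GB 2280 := by
  have h : ff 38 = 19 / 18 := (ff_two_mul (p := 19) (by norm_num) (by norm_num)).trans (by norm_num)
  exact gb_of (q := 38) (by norm_num) (by rw [h, show 60 * 38 = 2280 from rfl, tot2280]; norm_num) (by rw [h]; norm_num)

theorem pi_2280_0 (h : Tabs) : PI 2280 (Real.exp 32.7) 0.2874 1.7262 := by
  have := pi_mono (pi_of (xl := 158000000000000) (lo := 2874) (up := 17262) (s0 := 4) (t := bI2280.tail) gb2280 (by norm_num) tot2280 (by norm_num)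
    facts2280 (by norm_num) h.2.2.2.2.2.2.2 (by decide +kernel)) x0_le
  convert this using 1 <;> norm_num

theorem pi_2280_1 (h : Tabs) : PI 2280 (Real.exp 42.5) 0.4073 1.6031 := by
  have := pi_mono (pi_of (xl := 2860000000000000000) (lo := 4073) (up := 16031) (s0 := 4) (t := bI2280.tail) gb2280 (by norm_num) tot2280 (by norm_num)
    facts2280 (by norm_num) h.2.2.2.2.2.2.2 (by decide +kernel)) x1_le
  convert this using 1 <;> norm_num

theorem pi_2280_2 (h : Tabs) : PI 2280 (Real.exp 57.5) 0.4570 1.5519 := by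
  have := pi_mono (pi_of (xl := 9360000000000000000000000) (lo := 4570) (up := 15519) (s0 := 4) (t := bI2280.tail) gb2280 (by norm_num) tot2280 (by norm_num)
    facts2280 (by norm_num) h.2.2.2.2.2.2.2 (by decide +kernel)) x2_le
  convert this using 1 <;> norm_num

theorem piTab (h : Tabs) : N.PITab :=
  ⟨⟨pi_60_0 h, pi_120_0 h, pi_840_0 h, pi_1320_0 h, pi_1560_0 h, pi_2040_0 h, pi_2280_0 h⟩,
   ⟨pi_60_1 h, pi_120_1 h, pi_840_1 h, pi_1320_1 h, pi_1560_1 h, pi_2040_1 h, pi_2280_1 h⟩,
   ⟨pi_60_2 h, pi_120_2 h, pi_840_2 h, pi_1320_2 h, pi_1560_2 h, pi_2040_2 h, pi_2280_2 h⟩⟩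

end Cfsg.Agent.Depth.P
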